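import Mathlib
import Cfsg.Prelude.Def_LieTypeDatum
import Cfsg.Agent.ClassicalGeometry.AutPSL.Main
import Cfsg.Agent.H198.SplitCount
set_option linter.all false

/-!
# The automorphism group of `PSL_n(F)` and its named subgroups (helper199)

`Psi : GL_n(F) →* Aut(PSL_n(F))`; `inndiagPSL` is its range, `Inn` the image of `SL_n(F)`, its kernel the scalars;
standard field automorphisms are `phi σ = lift (fld σ)`, inverse-transpose is `iot = lift itr`; the relations between
these; normality of `inndiagPSL` in the full automorphism group; transport of centralizers and of `splitClassCount`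
along conjugation.
-/

set_option autoImplicit false
set_option linter.unusedSectionVars false

namespace Cfsg.Agent.H199.PslAut

open Matrix
open Cfsg.Agent.ClassicalGeometry.AutPSL.Root
open Cfsg.Agent.ClassicalGeometry.AutPSL.Auto
open Cfsg.Agent.ClassicalGeometry.AutPSL.Main

section general

variable {F : Type*} [Field F] {n : ℕ}

/-- Conjugation by an invertible matrix on `PSL_n(F)`. -/
noncomputable def Psi (n : ℕ) (F : Type*) [Field F] :
    GL (Fin n) F →* MulAut (Matrix.ProjectiveSpecialLinearGroup (Fin n) F) :=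
  lift.comp cj

/-- The standard field automorphisms of `PSL_n(F)`. -/
noncomputable def phi (n : ℕ) (F : Type*) [Field F] :
    (F ≃+* F) →* MulAut (Matrix.ProjectiveSpecialLinearGroup (Fin n) F) :=
  lift.comp fld

/-- The inverse-transpose automorphism of `PSL_n(F)`. -/
noncomputable def iot (n : ℕ) (F : Type*) [Field F] :
    MulAut (Matrix.ProjectiveSpecialLinearGroup (Fin n) F) := lift itr

theorem Psi_pr (g : GL (Fin n) F) (s : Matrix.SpecialLinearGroup (Fin n) F) :
    Psi n F g (pr s) = pr (cj g s) := rfl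

theorem phi_pr (σ : F ≃+* F) (s : Matrix.SpecialLinearGroup (Fin n) F) :
    phi n F σ (pr s) = pr (fld σ s) := rfl

theorem iot_pr (s : Matrix.SpecialLinearGroup (Fin n) F) :
    iot n F (pr s) = pr (itr s) := rfl

theorem induced_iff (g : GL (Fin n) F) (σ : F ≃+* F)
    (β : MulAut (Matrix.ProjectiveSpecialLinearGroup (Fin n) F)) :
    IsInducedBySemilinearPSL g σ β ↔ β = Psi n F g * phi n F σ := by
  constructor
  · intro h
    apply MulEquiv.ext
    intro x
    obtain ⟨x, rfl⟩ := pr_surjective x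
    exact h x (cj g (fld σ x)) rfl
  · rintro rfl s s' h
    have h1 : s' = cj g (fld σ s) := Subtype.ext h
    rw [h1]
    rfl

theorem std_iff (σ : F ≃+* F) (β : MulAut (Matrix.ProjectiveSpecialLinearGroup (Fin n) F)) :
    IsStdFieldAutPSL σ β ↔ β = phi n F σ := by
  constructor
  · intro h
    apply MulEquiv.ext
    intro x
    obtain ⟨x, rfl⟩ := pr_surjective x
    exact h x (fld σ x) rfl
  · rintro rfl s s' h
    have h1 : s' = fld σ s := Subtype.ext h
    rw [h1]
    rfl

theorem invTr_iff (β : MulAut (Matrix.ProjectiveSpecialLinearGroup (Fin n) F)) :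
    IsInverseTransposeAutPSL β ↔ β = iot n F := by
  constructor
  · intro h
    apply MulEquiv.ext
    intro x
    obtain ⟨x, rfl⟩ := pr_surjective x
    exact h x (itr x) rfl
  · rintro rfl s s' h
    have h1 : s' = itr s := Subtype.ext h
    rw [h1]
    rfl

theorem innerDiag_iff (β : MulAut (Matrix.ProjectiveSpecialLinearGroup (Fin n) F)) :
    IsInnerDiagonalAutPSL β ↔ ∃ g : GL (Fin n) F, β = Psi n F g := by
  constructor
  · rintro ⟨g, h⟩
    refine ⟨g, ?_⟩
    apply MulEquiv.ext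
    intro x
    obtain ⟨x, rfl⟩ := pr_surjective x
    exact h x (cj g x) rfl
  · rintro ⟨g, rfl⟩
    refine ⟨g, fun s s' h => ?_⟩
    have h1 : s' = cj g s := Subtype.ext h
    rw [h1]
    rfl

theorem inndiag_eq : inndiagPSL n F = (Psi n F).range := by
  apply le_antisymm
  · refine (Subgroup.closure_le _).2 ?_
    intro β hβ
    obtain ⟨g, rfl⟩ := (innerDiag_iff β).1 hβ
    exact ⟨g, rfl⟩
  · rintro _ ⟨g, rfl⟩
    exact Subgroup.subset_closure ((innerDiag_iff _).2 ⟨g, rfl⟩)

theorem mem_inndiag {β : MulAut (Matrix.ProjectiveSpecialLinearGroup (Fin n) F)} :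
    β ∈ inndiagPSL n F ↔ ∃ g : GL (Fin n) F, β = Psi n F g := by
  rw [inndiag_eq]
  exact ⟨fun ⟨g, h⟩ => ⟨g, h.symm⟩, fun ⟨g, h⟩ => ⟨g, h.symm⟩⟩

theorem Psi_mem (g : GL (Fin n) F) : Psi n F g ∈ inndiagPSL n F := mem_inndiag.2 ⟨g, rfl⟩

/-- Elements of `SL` induce inner automorphisms. -/
theorem Psi_coe (s : Matrix.SpecialLinearGroup (Fin n) F) :
    Psi n F (s : GL (Fin n) F) = MulAut.conj (pr s) := by
  apply MulEquiv.ext
  intro x
  obtain ⟨x, rfl⟩ := pr_surjective x
  rw [Psi_pr, MulAut.conj_apply, ← map_mul, ← map_inv, ← map_mul]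
  congr 1

theorem Inn_eq : Inn (Matrix.ProjectiveSpecialLinearGroup (Fin n) F) =
    (Matrix.SpecialLinearGroup.toGL : Matrix.SpecialLinearGroup (Fin n) F →* GL (Fin n) F).range.map
      (Psi n F) := by
  apply le_antisymm
  · rintro _ ⟨x, rfl⟩
    obtain ⟨x, rfl⟩ := pr_surjective x
    exact ⟨_, ⟨x, rfl⟩, Psi_coe x⟩
  · rintro _ ⟨_, ⟨x, rfl⟩, rfl⟩
    exact ⟨pr x, (Psi_coe x).symm⟩

/-- Entrywise application of a field automorphism to invertible matrices. -/
def mapGL (σ : F ≃+* F) : GL (Fin n) F →* GL (Fin n) F :=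
  Matrix.GeneralLinearGroup.map (σ : F →+* F)

theorem coe_mapGL (σ : F ≃+* F) (g : GL (Fin n) F) :
    (mapGL σ g : Matrix (Fin n) (Fin n) F) = (g : Matrix (Fin n) (Fin n) F).map σ := rfl

/-- Inverse-transpose on invertible matrices. -/
def itGL : GL (Fin n) F →* GL (Fin n) F where
  toFun g := ⟨((g⁻¹ : GL (Fin n) F) : Matrix (Fin n) (Fin n) F)ᵀ, (g : Matrix (Fin n) (Fin n) F)ᵀ, by
      rw [← transpose_mul, ← Units.val_mul, mul_inv_cancel, Units.val_one, transpose_one], by
      rw [← transpose_mul, ← Units.val_mul, inv_mul_cancel, Units.val_one, transpose_one]⟩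
  map_one' := by
    apply Units.ext
    change (((1 : GL (Fin n) F)⁻¹ : GL (Fin n) F) : Matrix (Fin n) (Fin n) F)ᵀ = 1
    rw [inv_one, Units.val_one, transpose_one]
  map_mul' g h := by
    apply Units.ext
    change (((g * h)⁻¹ : GL (Fin n) F) : Matrix (Fin n) (Fin n) F)ᵀ = _ * _
    rw [_root_.mul_inv_rev, Units.val_mul, transpose_mul]

theorem coe_itGL (g : GL (Fin n) F) :
    (itGL g : Matrix (Fin n) (Fin n) F) = ((g⁻¹ : GL (Fin n) F) : Matrix (Fin n) (Fin n) F)ᵀ := rfl

theorem coe_itGL_inv (g : GL (Fin n) F) :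
    (((itGL g)⁻¹ : GL (Fin n) F) : Matrix (Fin n) (Fin n) F) = (g : Matrix (Fin n) (Fin n) F)ᵀ := rfl

theorem itGL_itGL (g : GL (Fin n) F) : itGL (itGL g) = g := by
  apply Units.ext
  rw [coe_itGL, coe_itGL_inv, transpose_transpose]

theorem phi_mul_Psi (σ : F ≃+* F) (g : GL (Fin n) F) :
    phi n F σ * Psi n F g = Psi n F (mapGL σ g) * phi n F σ := by
  apply MulEquiv.ext
  intro x
  obtain ⟨x, rfl⟩ := pr_surjective x
  change pr (fld σ (cj g x)) = pr (cj (mapGL σ g) (fld σ x))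
  congr 1
  apply Subtype.ext
  rw [coe_cj, ← map_inv]
  change ((g : Matrix (Fin n) (Fin n) F) * x.1 * ((g⁻¹ : GL (Fin n) F) : Matrix (Fin n) (Fin n) F)).map
    (σ : F →+* F) = (g : Matrix (Fin n) (Fin n) F).map (σ : F →+* F) * x.1.map (σ : F →+* F) *
      ((g⁻¹ : GL (Fin n) F) : Matrix (Fin n) (Fin n) F).map (σ : F →+* F)
  rw [Matrix.map_mul, Matrix.map_mul]

theorem iot_mul_Psi (g : GL (Fin n) F) : iot n F * Psi n F g = Psi n F (itGL g) * iot n F := by
  apply MulEquiv.ext
  intro x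
  obtain ⟨x, rfl⟩ := pr_surjective x
  change pr (itr (cj g x)) = pr (cj (itGL g) (itr x))
  congr 1
  apply Subtype.ext
  rw [coe_cj, coe_itr, coe_itr, coe_itGL, coe_itGL_inv, ← map_inv, coe_cj, transpose_mul,
    transpose_mul, mul_assoc]

theorem iot_mul_phi (σ : F ≃+* F) : iot n F * phi n F σ = phi n F σ * iot n F := by
  apply MulEquiv.ext
  intro x
  obtain ⟨x, rfl⟩ := pr_surjective x
  change pr (itr (fld σ x)) = pr (fld σ (itr x))
  congr 1
  apply Subtype.ext
  rw [coe_itr, ← map_inv]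
  rfl

theorem iot_mul_iot : iot n F * iot n F = 1 := by
  rw [iot, ← map_mul, itr_mul_itr, map_one]

theorem iot_inv : (iot n F)⁻¹ = iot n F := by
  rw [inv_eq_iff_mul_eq_one, iot_mul_iot]

theorem phi_conj_Psi (σ : F ≃+* F) (g : GL (Fin n) F) :
    phi n F σ * Psi n F g * (phi n F σ)⁻¹ = Psi n F (mapGL σ g) := by
  rw [phi_mul_Psi, mul_inv_cancel_right]

theorem iot_conj_Psi (g : GL (Fin n) F) :
    iot n F * Psi n F g * (iot n F)⁻¹ = Psi n F (itGL g) := by
  rw [iot_mul_Psi, mul_inv_cancel_right]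

/-- The scalar matrix of a unit. -/
abbrev scal (n : ℕ) (F : Type*) [Field F] : Fˣ →* GL (Fin n) F :=
  Matrix.GeneralLinearGroup.scalar (Fin n)

theorem coe_scal (u : Fˣ) : (scal n F u : Matrix (Fin n) (Fin n) F) = scalar (Fin n) (u : F) := rfl

theorem Psi_scal (u : Fˣ) : Psi n F (scal n F u) = 1 := by
  rw [Psi, MonoidHom.comp_apply, cj_eq_one_of_scalar (r := (u : F)) rfl, map_one]

theorem Psi_phi_eq (hn : 2 ≤ n) {g : GL (Fin n) F} {σ τ : F ≃+* F}
    (h : Psi n F g * phi n F σ = phi n F τ) : (∃ u : Fˣ, g = scal n F u) ∧ σ = τ := by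
  have : Nontrivial (Fin n) := Fin.nontrivial_iff_two_le.2 hn
  obtain ⟨⟨r, hr⟩, h2⟩ := injective_aux (C := g) (σ := σ) (τ := τ) (by rw [map_mul]; exact h)
  refine ⟨?_, h2⟩
  have hr0 : r ≠ 0 := by
    rintro rfl
    have h3 : (g : Matrix (Fin n) (Fin n) F) * ((g⁻¹ : GL (Fin n) F) : Matrix (Fin n) (Fin n) F)
        = 1 := by rw [← Units.val_mul, mul_inv_cancel, Units.val_one]
    rw [← hr, map_zero, zero_mul] at h3
    have := congrFun (congrFun h3 ⟨0, by omega⟩) ⟨0, by omega⟩
    rw [one_apply_eq] at this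
    exact zero_ne_one this
  exact ⟨Units.mk0 r hr0, Units.ext hr.symm⟩

theorem Psi_eq_one_iff (hn : 2 ≤ n) {g : GL (Fin n) F} :
    Psi n F g = 1 ↔ ∃ u : Fˣ, g = scal n F u := by
  constructor
  · intro h
    exact (Psi_phi_eq hn (σ := 1) (τ := 1) (by rw [h, one_mul])).1
  · rintro ⟨u, rfl⟩
    exact Psi_scal u

theorem Psi_eq_Psi_iff (hn : 2 ≤ n) {g h : GL (Fin n) F} :
    Psi n F g = Psi n F h ↔ ∃ u : Fˣ, g = scal n F u * h := by
  rw [← mul_inv_eq_one, ← map_inv, ← map_mul, Psi_eq_one_iff hn]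
  exact exists_congr fun u => mul_inv_eq_iff_eq_mul

theorem phi_injective (hn : 2 ≤ n) : Function.Injective (phi n F) := fun σ τ h =>
  (Psi_phi_eq hn (g := 1) (by rw [map_one, one_mul, h])).2

theorem not_graph' (hn : 3 ≤ n) {g : GL (Fin n) F} {σ τ : F ≃+* F}
    (h : Psi n F g * phi n F σ * iot n F = phi n F τ) : False :=
  not_graph (ι := Fin n) (by rw [Fintype.card_fin]; exact hn) (C := g) (σ := σ) (τ := τ)
    (by rw [map_mul, map_mul]; exact h)

end general

section transport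

variable {X : Type*} [Group X]

/-- Conjugation by `α` maps `H ⊓ C(x)` onto `H ⊓ C(α x α⁻¹)` when `α` normalises `H`. -/
theorem nonempty_inf_centralizer_equiv {H : Subgroup X} (hH : H.Normal) (α x : X) :
    Nonempty (↥(H ⊓ Subgroup.centralizer {x}) ≃*
      ↥(H ⊓ Subgroup.centralizer {α * x * α⁻¹})) := by
  have hmap : (H ⊓ Subgroup.centralizer {x}).map (MulAut.conj α : X ≃* X).toMonoidHom =
      H ⊓ Subgroup.centralizer {α * x * α⁻¹} := by
    ext y
    constructor
    · rintro ⟨z, ⟨hz, hz'⟩, rfl⟩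
      refine ⟨hH.conj_mem z hz α, Subgroup.mem_centralizer_singleton_iff.2 ?_⟩
      have h1 := Subgroup.mem_centralizer_singleton_iff.1 hz'
      change α * z * α⁻¹ * (α * x * α⁻¹) = α * x * α⁻¹ * (α * z * α⁻¹)
      calc α * z * α⁻¹ * (α * x * α⁻¹) = α * (z * x) * α⁻¹ := by group
        _ = _ := by rw [h1]; group
    · rintro ⟨hy, hy'⟩
      have h1 := Subgroup.mem_centralizer_singleton_iff.1 hy'
      refine ⟨α⁻¹ * y * α, ⟨by simpa using hH.conj_mem y hy α⁻¹,
        Subgroup.mem_centralizer_singleton_iff.2 ?_⟩, ?_⟩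
      · calc α⁻¹ * y * α * x = α⁻¹ * (y * (α * x * α⁻¹)) * α := by group
          _ = _ := by rw [h1]; group
      · change α * (α⁻¹ * y * α) * α⁻¹ = y
        group
  exact ⟨(Subgroup.equivMapOfInjective _ _ (MulAut.conj α : X ≃* X).injective).trans
    (MulEquiv.subgroupCongr hmap)⟩

theorem isConjUnder_conj {H : Subgroup X} (hH : H.Normal) {α x y : X}
    (h : IsConjUnder H x y) : IsConjUnder H (α * x * α⁻¹) (α * y * α⁻¹) := by
  obtain ⟨g, hg, rfl⟩ := h
  exact ⟨α * g * α⁻¹, hH.conj_mem g hg α, by group⟩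

theorem isConjUnder_conj_iff {H : Subgroup X} (hH : H.Normal) {α x y : X} :
    IsConjUnder H (α * x * α⁻¹) (α * y * α⁻¹) ↔ IsConjUnder H x y := by
  constructor
  · intro h
    have := isConjUnder_conj (α := α⁻¹) hH h
    simpa [mul_assoc] using this
  · exact isConjUnder_conj hH

/-- `splitClassCount` for normal subgroups is invariant under conjugation. -/
theorem splitClassCount_conj {H K : Subgroup X} (hH : H.Normal) (hK : K.Normal) (α x : X) :
    splitClassCount H K (α * x * α⁻¹) = splitClassCount H K x := by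
  let e : {y : X // IsConjUnder H x y} ≃ {y : X // IsConjUnder H (α * x * α⁻¹) y} :=
    { toFun := fun y => ⟨α * y.1 * α⁻¹, isConjUnder_conj hH y.2⟩
      invFun := fun y => ⟨α⁻¹ * y.1 * α, by
        have := isConjUnder_conj (α := α⁻¹) hH y.2
        simpa [mul_assoc] using this⟩
      left_inv := fun y => by
        apply Subtype.ext
        change α⁻¹ * (α * y.1 * α⁻¹) * α = y.1
        group
      right_inv := fun y => by
        apply Subtype.ext
        change α * (α⁻¹ * y.1 * α) * α⁻¹ = y.1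
        group }
  symm
  refine Nat.card_congr (Quot.congr e fun y z => ?_)
  exact (isConjUnder_conj_iff hK).symm

end transport

section finite

variable {F : Type*} [Field F] [Fintype F] {n : ℕ}

/-- Every automorphism of `PSL_n(F)`. -/
theorem exists_form (hn : 2 ≤ n) (α : MulAut (Matrix.ProjectiveSpecialLinearGroup (Fin n) F)) :
    (∃ (g : GL (Fin n) F) (σ : F ≃+* F), α = Psi n F g * phi n F σ) ∨
    (3 ≤ n ∧ ∃ (g : GL (Fin n) F) (σ : F ≃+* F), α = Psi n F g * phi n F σ * iot n F) := by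
  have hp : (ringChar F).Prime := CharP.char_is_prime F _
  have : Fact (ringChar F).Prime := ⟨hp⟩
  by_cases h3 : 3 ≤ n
  · rcases surj_three (ringChar F) h3 α with ⟨A, σ, rfl⟩ | ⟨A, σ, rfl⟩
    · left
      exact ⟨A, σ, by rw [map_mul]; rfl⟩
    · right
      exact ⟨h3, A, σ, by rw [map_mul, map_mul]; rfl⟩
  · obtain rfl : n = 2 := by omega
    obtain ⟨A, σ, rfl⟩ := surj_two (ringChar F) α
    left
    exact ⟨A, σ, by rw [map_mul]; rfl⟩

/-- `Inndiag(PSL_n(F))` is normal in the full automorphism group. -/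
theorem inndiag_normal (hn : 2 ≤ n) : (inndiagPSL n F).Normal := by
  have key : ∀ (σ : F ≃+* F) (β : MulAut (Matrix.ProjectiveSpecialLinearGroup (Fin n) F)),
      β ∈ inndiagPSL n F → phi n F σ * β * (phi n F σ)⁻¹ ∈ inndiagPSL n F := by
    intro σ β hβ
    obtain ⟨g, rfl⟩ := mem_inndiag.1 hβ
    rw [phi_conj_Psi]
    exact Psi_mem _
  have key2 : ∀ (β : MulAut (Matrix.ProjectiveSpecialLinearGroup (Fin n) F)),
      β ∈ inndiagPSL n F → iot n F * β * (iot n F)⁻¹ ∈ inndiagPSL n F := by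
    intro β hβ
    obtain ⟨g, rfl⟩ := mem_inndiag.1 hβ
    rw [iot_conj_Psi]
    exact Psi_mem _
  refine ⟨fun β hβ α => ?_⟩
  rcases exists_form hn α with ⟨g, σ, rfl⟩ | ⟨-, g, σ, rfl⟩
  · have h1 : Psi n F g * phi n F σ * β * (Psi n F g * phi n F σ)⁻¹ =
        Psi n F g * (phi n F σ * β * (phi n F σ)⁻¹) * (Psi n F g)⁻¹ := by group
    rw [h1]
    exact Subgroup.mul_mem _ (Subgroup.mul_mem _ (Psi_mem g) (key σ β hβ))
      (Subgroup.inv_mem _ (Psi_mem g))
  · have h1 : Psi n F g * phi n F σ * iot n F * β * (Psi n F g * phi n F σ * iot n F)⁻¹ =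
        Psi n F g * (phi n F σ * (iot n F * β * (iot n F)⁻¹) * (phi n F σ)⁻¹) *
          (Psi n F g)⁻¹ := by group
    rw [h1]
    exact Subgroup.mul_mem _ (Subgroup.mul_mem _ (Psi_mem g) (key σ _ (key2 β hβ)))
      (Subgroup.inv_mem _ (Psi_mem g))

end finite

end Cfsg.Agent.H199.PslAut
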