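import Cfsg.Agent.H805.NilSp_m3
import Cfsg.Agent.BpSpor.MFiveAbs
import Cfsg.Agent.Solvable.Hall
import Cfsg.Agent.FastGrp
import Cfsg.Agent.Prune
set_option linter.all false
prune_inst 0x7f00000000000000000000000000000000000000000000000000000000000000000000000000000000000000000000000000000000000000000000000000000000000000000000000000000000000000003fffffffffffffffffffffffffffbeffbdffffffff
open scoped Cfsg.Agent.FastGrp

/-!
# Abstract tools for the rows `B`, `M` of S2242 (helper199)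

* `not_dvd_of_rad` : in the situation `Rad` a prime `r` with `r ^ 2 ∤ |D|`, `r ∤ |A|`, does not divide `|D|`
* `card_cent_of_solvable` : `{p, r}`-Hall subgroups of solvable groups, `r` large
* `not_dvd_cent` : if the elements of order `p` have solvable centralizers or centralizers of order prime to `r`
  then the second holds for all of them
* `exists_common` : a `p`-subgroup and a `p`-subgroup meet, up to conjugation, if they are large enough
* `card_dvd_of_nilpotent`
-/

set_option autoImplicit false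
set_option linter.unusedSectionVars false

namespace Cfsg.Agent.H199.NSmAbs

open Subgroup Cfsg

universe u v

/-- **In the situation `Rad`.** -/
theorem not_dvd_of_rad {D : Type u} [Group D] [Finite D] {p : ℕ} [hp : Fact p.Prime] {z x : D} {N : Subgroup D}
    {A : Type v} [Group A] [hA : IsSimpleGroup A] {f : ↥(centralizer ({z} : Set D)) →* A}
    (h : Cfsg.Agent.BpSpor.M5.Rad p z x N f) (hAc : ¬ Group.IsSolvable A) (hp2 : p ≠ 2)
    {k : ↥(centralizer ({z} : Set D))} (hk : (k : D) * k = z) {r : ℕ} (hr : r.Prime) (hrp : r ≠ p) (hr2 : r ≠ 2)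
    (hrA : ¬ r ∣ Nat.card A) (hD : ¬ r ^ 2 ∣ Nat.card D) : ¬ r ∣ Nat.card D := by
  intro hd
  have : Fact r.Prime := ⟨hr⟩
  have hNn := h.nN
  obtain ⟨m, hm, hc⟩ := h.card_N_mul hAc
  have hrN : r ∣ Nat.card ↥N := by
    rw [hc] at hd
    rcases hr.dvd_mul.1 hd with h1 | h1
    · exact h1
    · rcases hr.dvd_mul.1 h1 with h2 | h2
      · exact absurd h2 hrA
      · exact absurd ((Nat.prime_dvd_prime_iff_eq hr Nat.prime_two).1 (h2.trans hm)) hr2
  have hnil : Group.IsNilpotent ↥N := h.isNilpotent hp2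
  obtain ⟨P⟩ : Nonempty (Sylow r ↥N) := inferInstance
  have hPn : (P : Subgroup ↥N).Normal := inferInstance
  have hPc : (P : Subgroup ↥N).Characteristic := Sylow.characteristic_of_normal P hPn
  set R : Subgroup D := (P : Subgroup ↥N).map N.subtype with hRdef
  have hRn : R.Normal := ConjAct.normal_of_characteristic_of_normal
  have hRN : R ≤ N := map_subtype_le _
  have hRp : IsPGroup r ↥R := P.isPGroup'.map _
  have hRc : Nat.card ↥R = r := by
    have h1 : r ∣ Nat.card ↥R := by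
      rw [hRdef, card_map_of_injective N.subtype_injective]
      exact P.dvd_card_of_dvd_card hrN
    obtain ⟨j, hj⟩ := IsPGroup.iff_card.1 hRp
    have h2 : Nat.card ↥R ∣ Nat.card D := card_subgroup_dvd_card R
    have hj1 : j < 2 := by
      by_contra hcon
      apply hD
      rw [hj] at h2
      exact (pow_dvd_pow r (not_lt.1 hcon)).trans h2
    have hj0 : j ≠ 0 := by
      rintro rfl
      rw [hj, pow_zero, Nat.dvd_one] at h1
      exact hr.one_lt.ne' h1
    have : j = 1 := by omega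
    rw [hj, this, pow_one]
  -- `N` centralizes `R`
  have hNC : ∀ n ∈ N, ∀ m ∈ R, n * m = m * n := by
    intro n hn m hm
    obtain ⟨i, hi⟩ := h.comm hp2 hn (hRN hm)
    have hmr : m ^ r = 1 := by
      have h3 : (⟨m, hm⟩ : ↥R) ^ Nat.card ↥R = 1 := pow_card_eq_one'
      rw [hRc] at h3
      exact congrArg Subtype.val h3
    have h1 : (n * m * n⁻¹) ^ r = 1 := by rw [conj_pow, hmr, mul_one, mul_inv_cancel]
    rw [hi] at h1
    have hmx : Commute m (x ^ i) := h.xzc i m
    rw [hmx.mul_pow, hmr, one_mul] at h1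
    have h2 : (x ^ i) ^ p = 1 := by
      rw [← zpow_natCast, ← zpow_mul, mul_comm, zpow_mul, zpow_natCast, ← h.ox, pow_orderOf_eq_one, one_zpow]
    have h3 : orderOf (x ^ i) ∣ Nat.gcd r p := Nat.dvd_gcd (orderOf_dvd_of_pow_eq_one h1) (orderOf_dvd_of_pow_eq_one h2)
    rw [(Nat.coprime_primes hr hp.out).2 hrp, Nat.dvd_one, orderOf_eq_one_iff] at h3
    rw [h3, mul_one, mul_inv_eq_iff_eq_mul] at hi
    exact hi
  set C : Subgroup D := centralizer (R : Set D) with hC
  have hCn : C.Normal := by rw [hC]; infer_instance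
  have hNle : N ≤ C := by
    intro n hn
    rw [hC, mem_centralizer_iff]
    intro m hm
    exact (hNC n hn m hm).symm
  have hCs : ¬ Group.IsSolvable ↥C := by
    intro hs
    apply hAc
    have hcyc : IsCyclic ↥R := isCyclic_of_prime_card hRc
    let g : D →* MulAut ↥R := MulAut.conjNormal
    have hcomm : ∀ a b : MulAut ↥R, a * b = b * a := by
      intro a b
      apply (IsCyclic.mulAutMulEquiv ↥R).injective
      rw [map_mul, map_mul, mul_comm]
    have hD1 : Group.IsSolvable D := by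
      refine Group.isSolvable_of_ker_le_range C.subtype g ?_ (hG' := hs) (hG'' := Group.isSolvable_of_comm hcomm)
      intro d hd1
      rw [range_subtype, hC, mem_centralizer_iff]
      intro m hm
      have h1 : g d ⟨m, hm⟩ = ⟨m, hm⟩ := by rw [MonoidHom.mem_ker.1 hd1]; rfl
      have h2 : d * m * d⁻¹ = m := by
        have h3 := congrArg Subtype.val h1
        rwa [MulAut.conjNormal_apply] at h3
      rw [mul_inv_eq_iff_eq_mul] at h2
      exact h2.symm
    have hD2 : Group.IsSolvable ↥(centralizer ({z} : Set D)) := inferInstance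
    exact Group.isSolvable_of_surjective h.surj
  obtain ⟨c, hc1, n, hn, hz⟩ := h.z_mem_sup hp2 hk C hCs
  have hzC : z ∈ C := by
    rw [hz]
    exact mul_mem hc1 (hNle hn)
  -- a nontrivial element of `R`
  have h1 : 1 < Nat.card ↥R := by rw [hRc]; exact hr.one_lt
  have : Nontrivial ↥R := Finite.one_lt_card_iff_nontrivial.1 h1
  obtain ⟨⟨m, hm⟩, hm1⟩ := exists_ne (1 : ↥R)
  have hmz : m * z = z * m := mem_centralizer_iff.1 hzC m hm
  have hmx := h.cN m (hRN hm) hmz
  apply hm1
  apply Subtype.ext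
  show m = 1
  have hmr : m ^ r = 1 := by
    have h3 : (⟨m, hm⟩ : ↥R) ^ Nat.card ↥R = 1 := pow_card_eq_one'
    rw [hRc] at h3
    exact congrArg Subtype.val h3
  have hmp : m ^ p = 1 := by
    obtain ⟨i, rfl⟩ := mem_zpowers_iff.1 hmx
    rw [← zpow_natCast, ← zpow_mul, mul_comm, zpow_mul, zpow_natCast, ← h.ox, pow_orderOf_eq_one, one_zpow]
  have h3 : orderOf m ∣ Nat.gcd r p := Nat.dvd_gcd (orderOf_dvd_of_pow_eq_one hmr) (orderOf_dvd_of_pow_eq_one hmp)
  rw [(Nat.coprime_primes hr hp.out).2 hrp, Nat.dvd_one, orderOf_eq_one_iff] at h3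
  exact h3

variable {G : Type u} [Group G] [Finite G]

/-- conjugate subgroups of prime order, the prime exactly dividing the order of the group -/
theorem card_cent_dvd {r : ℕ} (hr : r.Prime) (hr2 : ¬ r ^ 2 ∣ Nat.card G) {y s : G} (hy : orderOf y = r)
    (hs : orderOf s = r) : Nat.card ↥(centralizer ({s} : Set G)) ∣ Nat.card ↥(centralizer ({y} : Set G)) := by
  have : Fact r.Prime := ⟨hr⟩
  have key : ∀ w : G, orderOf w = r → ¬ r ∣ (zpowers w).index := by
    intro w hw h1
    apply hr2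
    rw [← (zpowers w).card_mul_index, Nat.card_zpowers, hw, pow_two]
    exact Nat.mul_dvd_mul_left r h1
  have hpg : ∀ w : G, orderOf w = r → IsPGroup r ↥(zpowers w) := fun w hw =>
    IsPGroup.of_card (n := 1) (by rw [Nat.card_zpowers, hw, pow_one])
  obtain ⟨g, hg⟩ := MulAction.exists_smul_eq G ((hpg s hs).toSylow (key s hs)) ((hpg y hy).toSylow (key y hy))
  have hg' : (zpowers s).map (MulAut.conj g).toMonoidHom = zpowers y := congrArg Sylow.toSubgroup hg
  have h1 : (centralizer ({s} : Set G)).map (MulAut.conj g).toMonoidHom ≤ centralizer ({y} : Set G) := by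
    rintro _ ⟨c, hc, rfl⟩
    rw [mem_centralizer_singleton_iff]
    have h2 : y ∈ (zpowers s).map (MulAut.conj g).toMonoidHom := by rw [hg']; exact mem_zpowers y
    obtain ⟨w, hw, rfl⟩ := h2
    obtain ⟨i, rfl⟩ := mem_zpowers_iff.1 hw
    have h3 : Commute c s := mem_centralizer_singleton_iff.1 hc
    rw [← map_mul, (h3.zpow_right i).eq, map_mul]
  have e := (centralizer ({s} : Set G)).equivMapOfInjective (MulAut.conj g).toMonoidHom (MulAut.conj g).injective
  rw [Nat.card_congr e.toEquiv]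
  exact card_dvd_of_le h1

/-- **Solvable groups.** -/
theorem card_cent_of_solvable {p r : ℕ} (hp : p.Prime) (hr : r.Prime) (hr2 : ¬ r ^ 2 ∣ Nat.card G)
    {n : ℕ} (hn : ¬ p ^ (n + 1) ∣ Nat.card G) (hrp : ¬ p ∣ r - 1) (hord : ∀ j, 0 < j → j ≤ n → ¬ r ∣ p ^ j - 1)
    {L : Subgroup G} (hL : Group.IsSolvable ↥L) {y : G} (hy : orderOf y = r) (hyL : y ∈ L) {k : ℕ}
    (hk : p ^ k ∣ Nat.card ↥L) (hpr : p ≠ r) : p ^ k ∣ Nat.card ↥(centralizer ({y} : Set G)) := by
  have : Fact r.Prime := ⟨hr⟩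
  have : Fact p.Prime := ⟨hp⟩
  obtain ⟨a, m, hm, hm2⟩ := Nat.exists_eq_pow_mul_and_not_dvd (n := Nat.card ↥L) Nat.card_pos.ne' p hp.ne_one
  have hka : k ≤ a := by
    rw [hm2] at hk
    have h1 : p ^ k ∣ p ^ a := ((hp.coprime_iff_not_dvd.2 hm).pow_left k).dvd_of_dvd_mul_right hk
    exact (Nat.pow_dvd_pow_iff_le_right hp.one_lt).1 h1
  have han : a ≤ n := by
    by_contra hcon
    apply hn
    exact (pow_dvd_pow p (not_le.1 hcon)).trans ((Dvd.intro _ hm2.symm).trans (card_subgroup_dvd_card L))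
  have hcp : Nat.Coprime r (p ^ a) := ((Nat.coprime_primes hr hp).2 hpr.symm).pow_right a
  have hrm : r ∣ m := by
    have h1 : r ∣ Nat.card ↥L := by
      rw [← hy, ← Subgroup.orderOf_mk y hyL]
      exact orderOf_dvd_natCard _
    rw [hm2] at h1
    exact hcp.dvd_of_dvd_mul_left h1
  obtain ⟨m', rfl⟩ := hrm
  have hrm' : ¬ r ∣ m' := by
    rintro ⟨c, rfl⟩
    apply hr2
    refine Dvd.dvd.trans ?_ (card_subgroup_dvd_card L)
    rw [hm2]
    exact ⟨p ^ a * c, by ring⟩
  have hpm' : ¬ p ∣ m' := fun h1 => hm (Dvd.dvd.mul_left h1 r)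
  obtain ⟨K, hK⟩ := Cfsg.Agent.Solvable.Hall.hall_exists (G := ↥L) (p ^ a * r) m' (by rw [hm2, mul_assoc])
    (Nat.Coprime.mul_left ((hp.coprime_iff_not_dvd.2 hpm').pow_left a) (hr.coprime_iff_not_dvd.2 hrm'))
  -- the Sylow `r`-subgroup of `K`
  obtain ⟨S⟩ : Nonempty (Sylow r ↥K) := inferInstance
  have hSc : Nat.card ↥(S : Subgroup ↥K) = r := by
    have h1 := S.card_eq_multiplicity
    rw [h1, hK, Nat.factorization_mul (pow_pos hp.pos a).ne' hr.ne_zero, Finsupp.add_apply, hr.factorization_self,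
      Nat.factorization_eq_zero_of_not_dvd (fun h2 => ?_), zero_add, pow_one]
    exact hpr ((Nat.prime_dvd_prime_iff_eq hr hp).1 (hr.dvd_of_dvd_pow h2)).symm
  have hSi : (S : Subgroup ↥K).index = p ^ a := by
    have h1 := (S : Subgroup ↥K).card_mul_index
    rw [hSc, hK, mul_comm (p ^ a)] at h1
    exact Nat.eq_of_mul_eq_mul_left hr.pos h1
  have hSy : Nat.card (Sylow r ↥K) = 1 := by
    have h1 := Sylow.card_dvd_index S
    rw [hSi] at h1
    obtain ⟨j, hj, hj'⟩ := (Nat.dvd_prime_pow hp).1 h1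
    have h2 : Nat.card (Sylow r ↥K) ≡ 1 [MOD r] := card_sylow_modEq_one r ↥K
    rw [hj'] at h2 ⊢
    rcases Nat.eq_zero_or_pos j with rfl | h0
    · exact pow_zero p
    · exfalso
      apply hord j h0 (hj.trans han)
      exact (Nat.modEq_iff_dvd' (Nat.one_le_pow _ _ hp.pos)).1 h2.symm
  have hsub : Subsingleton (Sylow r ↥K) := (Nat.card_eq_one_iff_unique.1 hSy).1
  have hSn : (S : Subgroup ↥K).Normal := by
    have := hsub
    infer_instance
  have hcyc : IsCyclic ↥(S : Subgroup ↥K) := isCyclic_of_prime_card hSc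
  let g : ↥K →* MulAut ↥(S : Subgroup ↥K) := MulAut.conjNormal
  have hgr : g.range = ⊥ := by
    apply Subgroup.eq_bot_of_card_eq
    have h1 : Nat.card ↥g.range ∣ r - 1 := by
      refine (card_subgroup_dvd_card g.range).trans ?_
      rw [Nat.card_congr (IsCyclic.mulAutMulEquiv ↥(S : Subgroup ↥K)).toEquiv, hSc, Nat.card_eq_fintype_card,
        ZMod.card_units_eq_totient, Nat.totient_prime hr]
    have h2 : Nat.card ↥g.range ∣ p ^ a * r := by
      rw [← hK]
      exact card_range_dvd g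
    have h3 : Nat.Coprime (r - 1) (p ^ a * r) := by
      refine Nat.Coprime.mul_right (((hp.coprime_iff_not_dvd.2 hrp).symm).pow_right a) ?_
      refine ((hr.coprime_iff_not_dvd).2 fun h4 => ?_).symm
      have := Nat.le_of_dvd (by have := hr.two_le; omega) h4
      have := hr.two_le
      omega
    exact Nat.eq_one_of_dvd_coprimes h3 h1 h2
  -- a generator of `S`
  obtain ⟨s, hs⟩ := exists_prime_orderOf_dvd_card' (G := ↥(S : Subgroup ↥K)) r (by rw [hSc])
  have hcomm : ∀ c : ↥K, c * (s : ↥K) = s * c := by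
    intro c
    have h1 : g c = 1 := by
      have : g c ∈ g.range := ⟨c, rfl⟩
      rw [hgr] at this
      exact mem_bot.1 this
    have h2 : g c s = s := by rw [h1]; rfl
    have h3 := congrArg Subtype.val h2
    rw [MulAut.conjNormal_apply, mul_inv_eq_iff_eq_mul] at h3
    exact h3
  let w : G := (((s : ↥(S : Subgroup ↥K)) : ↥K) : ↥L)
  have hw : orderOf w = r := by
    show orderOf ((((s : ↥(S : Subgroup ↥K)) : ↥K) : ↥L) : G) = r
    rw [Subgroup.orderOf_coe, Subgroup.orderOf_coe, Subgroup.orderOf_coe]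
    exact hs
  have hKle : (K.map L.subtype) ≤ centralizer ({w} : Set G) := by
    rintro _ ⟨c, hc, rfl⟩
    rw [mem_centralizer_singleton_iff]
    exact congrArg (fun t : ↥K => (((t : ↥L) : G))) (hcomm ⟨c, hc⟩)
  refine ((pow_dvd_pow p hka).trans ?_).trans (card_cent_dvd hr hr2 hy hw)
  refine Dvd.dvd.trans ?_ (card_dvd_of_le hKle)
  rw [card_map_of_injective L.subtype_injective, hK]
  exact dvd_mul_right _ _

/-- **The elements of order `p` all have centralizers of order prime to `r`.** -/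
theorem not_dvd_cent {p r : ℕ} (hp : p.Prime) (hr : r.Prime) (hpr : p ≠ r) (hr2 : ¬ r ^ 2 ∣ Nat.card G)
    {n : ℕ} (hn : ¬ p ^ (n + 1) ∣ Nat.card G) (hrp : ¬ p ∣ r - 1) (hord : ∀ j, 0 < j → j ≤ n → ¬ r ∣ p ^ j - 1)
    (E : G → Prop) (hE : ∀ x, orderOf x = p → E x → ¬ r ∣ Nat.card ↥(centralizer ({x} : Set G)))
    (hS : ∀ x, orderOf x = p → ¬ E x → Group.IsSolvable ↥(centralizer ({x} : Set G)))
    (hc : ∀ x g, E x → E (g * x * g⁻¹)) (hex : ∃ x, orderOf x = p ∧ E x) {x : G} (hx : orderOf x = p) :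
    ¬ r ∣ Nat.card ↥(centralizer ({x} : Set G)) := by
  intro hd
  have : Fact r.Prime := ⟨hr⟩
  have : Fact p.Prime := ⟨hp⟩
  obtain ⟨⟨y, hyc⟩, hy⟩ := exists_prime_orderOf_dvd_card' r hd
  rw [Subgroup.orderOf_mk] at hy
  rw [mem_centralizer_singleton_iff] at hyc
  -- a Sylow `p`-subgroup of `C(y)`
  obtain ⟨S⟩ : Nonempty (Sylow p ↥(centralizer ({y} : Set G))) := inferInstance
  set Q : Subgroup G := (S : Subgroup ↥(centralizer ({y} : Set G))).map (centralizer ({y} : Set G)).subtype with hQ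
  have hQy : ∀ q ∈ Q, q * y = y * q := by
    intro q hq
    exact mem_centralizer_singleton_iff.1 (map_subtype_le _ hq)
  have hQp : IsPGroup p ↥Q := S.isPGroup'.map _
  have hQc : Nat.card ↥Q = Nat.card ↥(S : Subgroup ↥(centralizer ({y} : Set G))) :=
    card_map_of_injective (Subgroup.subtype_injective _)
  have hmax : ∀ b : ℕ, p ^ b ∣ Nat.card ↥(centralizer ({y} : Set G)) → p ^ b ∣ Nat.card ↥Q := by
    intro b hb
    rw [hQc]
    exact S.pow_dvd_card_of_pow_dvd_card hb
  have hnE : ∀ q ∈ Q, orderOf q = p → ¬ E q := by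
    intro q hq ho he
    apply hE q ho he
    have h1 : y ∈ centralizer ({q} : Set G) := mem_centralizer_singleton_iff.2 (hQy q hq).symm
    rw [← hy, ← Subgroup.orderOf_mk y h1]
    exact orderOf_dvd_natCard _
  -- an element of order `p` of `Q`
  have hpQ : p ∣ Nat.card ↥Q := by
    have h1 : x ∈ centralizer ({y} : Set G) := mem_centralizer_singleton_iff.2 hyc.symm
    have h2 : p ^ 1 ∣ Nat.card ↥(centralizer ({y} : Set G)) := by
      rw [pow_one, ← hx, ← Subgroup.orderOf_mk x h1]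
      exact orderOf_dvd_natCard _
    have h3 := hmax 1 h2
    rwa [pow_one] at h3
  obtain ⟨⟨q₁, hq₁⟩, ho₁⟩ := exists_prime_orderOf_dvd_card' p hpQ
  rw [Subgroup.orderOf_mk] at ho₁
  have hs₁ := hS q₁ ho₁ (hnE q₁ hq₁ ho₁)
  have hCQ : Group.IsSolvable ↥(centralizer (Q : Set G)) := by
    have h1 : centralizer (Q : Set G) ≤ centralizer ({q₁} : Set G) :=
      centralizer_le (Set.singleton_subset_iff.2 hq₁)
    exact Group.isSolvable_of_isSolvable_injective (inclusion_injective h1)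
  -- a Sylow subgroup of `G`
  obtain ⟨P, hP⟩ := hQp.exists_le_sylow
  have hPne : ∃ g ∈ (P : Subgroup G), g ∉ Q ∧ g ∈ normalizer (Q : Set G) := by
    have hlt : Q.subgroupOf (P : Subgroup G) < ⊤ := by
      rw [lt_top_iff_ne_top]
      intro htop
      have hPQ : (P : Subgroup G) ≤ Q := by
        intro g hg
        have h1 : (⟨g, hg⟩ : ↥(P : Subgroup G)) ∈ Q.subgroupOf (P : Subgroup G) := by rw [htop]; trivial
        exact h1
      obtain ⟨x', hx', hE'⟩ := hex
      have h1 : IsPGroup p ↥(zpowers x') := IsPGroup.of_card (n := 1) (by rw [Nat.card_zpowers, hx', pow_one])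
      obtain ⟨P', hP'⟩ := h1.exists_le_sylow
      obtain ⟨g, hg⟩ := MulAction.exists_smul_eq G P' P
      have h2 : g * x' * g⁻¹ ∈ (P : Subgroup G) := by
        rw [← hg]
        exact ⟨x', hP' (mem_zpowers x'), rfl⟩
      refine hnE _ (hPQ h2) ?_ (hc x' g hE')
      rw [← hx', ← MulAut.conj_apply, MulEquiv.orderOf_eq]
    have hnil : Group.IsNilpotent ↥(P : Subgroup G) := P.isPGroup'.isNilpotent
    have h1 := Group.normalizerCondition_of_isNilpotent (G := ↥(P : Subgroup G)) _ hlt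
    obtain ⟨⟨g, hgP⟩, hg1, hg2⟩ := SetLike.exists_of_lt h1
    refine ⟨g, hgP, fun h3 => hg2 (mem_subgroupOf.2 h3), ?_⟩
    rw [mem_normalizer_iff]
    intro h
    rw [mem_normalizer_iff] at hg1
    constructor
    · intro hh
      exact (hg1 ⟨h, hP hh⟩).1 hh
    · intro hh
      have h4 : h ∈ (P : Subgroup G) := by
        have h5 := (P : Subgroup G).mul_mem ((P : Subgroup G).mul_mem ((P : Subgroup G).inv_mem hgP) (hP hh)) hgP
        have h6 : g⁻¹ * (g * h * g⁻¹) * g = h := by group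
        rwa [h6] at h5
      exact (hg1 ⟨h, h4⟩).2 hh
  obtain ⟨g, hgP, hgQ, hgN⟩ := hPne
  -- the larger `p`-group
  set P₁ : Subgroup G := (P : Subgroup G) ⊓ normalizer (Q : Set G) with hP₁
  have hP₁p : IsPGroup p ↥P₁ := P.isPGroup'.to_le inf_le_left
  have hQP₁ : Q ≤ P₁ := le_inf hP le_normalizer
  have hltc : Nat.card ↥Q < Nat.card ↥P₁ := by
    have hlt : Q < P₁ := lt_of_le_of_ne hQP₁ fun h1 => hgQ (by rw [h1]; exact ⟨hgP, hgN⟩)
    have h1 : (Q : Set G).ncard < (P₁ : Set G).ncard := Set.ncard_lt_ncard hlt (Set.toFinite _)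
    exact h1
  -- the solvable group
  let NQ : Subgroup G := normalizer (Q : Set G)
  have hCn : ((centralizer (Q : Set G)).subgroupOf NQ).Normal := by
    refine ⟨fun c hc' h => ?_⟩
    rw [mem_subgroupOf, mem_centralizer_iff] at hc' ⊢
    intro q hq
    have h1 : (h : G)⁻¹ * q * h ∈ Q := by
      have h2 := (mem_normalizer_iff.1 (NQ.inv_mem h.2) q).1 hq
      rwa [inv_inv] at h2
    have h3 := hc' _ h1
    show q * ((h : G) * c * (h : G)⁻¹) = (h : G) * c * (h : G)⁻¹ * q
    calc q * ((h : G) * c * (h : G)⁻¹) = h * ((h : G)⁻¹ * q * h * c) * (h : G)⁻¹ := by group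
      _ = h * (c * ((h : G)⁻¹ * q * h)) * (h : G)⁻¹ := by rw [h3]
      _ = _ := by group
  have hLs : Group.IsSolvable ↥(P₁.subgroupOf NQ ⊔ (centralizer (Q : Set G)).subgroupOf NQ : Subgroup ↥NQ) := by
    refine Cfsg.Agent.BpSpor.M5.solvable_of_mul (N := (centralizer (Q : Set G)).subgroupOf NQ)
      (E := P₁.subgroupOf NQ) ?_ ?_ ?_
    · have h1 : centralizer (Q : Set G) ≤ NQ := centralizer_le_normalizer _
      have := hCQ
      exact Group.isSolvable_of_isSolvable_injective (f := (subgroupOfEquivOfLe h1).toMonoidHom)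
        (subgroupOfEquivOfLe h1).injective
    · have h1 : IsPGroup p ↥(P₁.subgroupOf NQ) := hP₁p.comap_of_injective _ (Subgroup.subtype_injective _)
      have := h1.isNilpotent
      infer_instance
    · intro y' hy'
      obtain ⟨a, ha, b, hb, e⟩ := mem_sup_of_normal_left.1 (by rwa [sup_comm] at hy')
      exact ⟨a, ha, b, hb, e.symm⟩
  set L : Subgroup G := (P₁.subgroupOf NQ ⊔ (centralizer (Q : Set G)).subgroupOf NQ : Subgroup ↥NQ).map NQ.subtype with hL
  have hLs' : Group.IsSolvable ↥L := by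
    have := hLs
    exact Group.isSolvable_of_surjective (NQ.subtype.subgroupMap_surjective _)
  have hyL : y ∈ L := by
    have h1 : y ∈ centralizer (Q : Set G) := by
      rw [mem_centralizer_iff]
      exact hQy
    exact ⟨⟨y, centralizer_le_normalizer _ h1⟩, mem_sup_right (mem_subgroupOf.2 h1), rfl⟩
  have hPL : P₁ ≤ L := by
    intro g' hg'
    exact ⟨⟨g', hg'.2⟩, mem_sup_left (mem_subgroupOf.2 hg'), rfl⟩
  obtain ⟨b, hb⟩ := IsPGroup.iff_card.1 hP₁p
  obtain ⟨a, ha⟩ := IsPGroup.iff_card.1 hQp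
  have h1 := card_cent_of_solvable hp hr hr2 hn hrp hord hLs' hy hyL (k := b) (by rw [← hb]; exact card_dvd_of_le hPL) hpr
  have h2 := hmax b h1
  rw [← hb] at h2
  exact absurd (Nat.le_of_dvd Nat.card_pos h2) (not_le.2 hltc)

/-- **Pigeonhole.** -/
theorem exists_common {p n a b : ℕ} (hp : p.Prime) (hn : ¬ p ^ (n + 1) ∣ Nat.card G) {N T : Subgroup G}
    (hN : p ^ a ∣ Nat.card ↥N) (hT : p ^ b ∣ Nat.card ↥T) (hab : n < a + b) :
    ∃ g x : G, orderOf x = p ∧ x ∈ N ∧ g * x * g⁻¹ ∈ T := by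
  have : Fact p.Prime := ⟨hp⟩
  obtain ⟨Q, hQ⟩ := Sylow.exists_subgroup_card_pow_prime p hN
  obtain ⟨R, hR⟩ := Sylow.exists_subgroup_card_pow_prime p hT
  set Q' : Subgroup G := Q.map N.subtype with hQ'
  set R' : Subgroup G := R.map T.subtype with hR'
  have hQc : Nat.card ↥Q' = p ^ a := by rw [hQ', card_map_of_injective N.subtype_injective, hQ]
  have hRc : Nat.card ↥R' = p ^ b := by rw [hR', card_map_of_injective T.subtype_injective, hR]
  have hQp : IsPGroup p ↥Q' := IsPGroup.of_card hQc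
  have hRp : IsPGroup p ↥R' := IsPGroup.of_card hRc
  obtain ⟨P₁, hP₁⟩ := hQp.exists_le_sylow
  obtain ⟨P₂, hP₂⟩ := hRp.exists_le_sylow
  obtain ⟨g, hg⟩ := MulAction.exists_smul_eq G P₁ P₂
  have hQ₂ : Q'.map (MulAut.conj g).toMonoidHom ≤ (P₂ : Subgroup G) := by
    rw [← hg]
    exact map_mono hP₁
  by_cases hd : Q'.map (MulAut.conj g).toMonoidHom ⊓ R' = ⊥
  · exfalso
    have h1 := Subgroup.mul_injective_of_disjoint (disjoint_iff.2 hd)
    let f : ↥(Q'.map (MulAut.conj g).toMonoidHom) × ↥R' → ↥(P₂ : Subgroup G) := fun w =>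
      ⟨(w.1 : G) * w.2, (P₂ : Subgroup G).mul_mem (hQ₂ w.1.2) (hP₂ w.2.2)⟩
    have hf : Function.Injective f := fun u v huv => h1 (congrArg Subtype.val huv)
    have h2 := Nat.card_le_card_of_injective f hf
    have e := (Q'.equivMapOfInjective (MulAut.conj g).toMonoidHom (MulAut.conj g).injective)
    rw [Nat.card_prod, ← Nat.card_congr e.toEquiv, hQc, hRc, ← pow_add] at h2
    obtain ⟨j, hj⟩ := IsPGroup.iff_card.1 P₂.isPGroup'
    rw [hj] at h2
    have h3 := (Nat.pow_le_pow_iff_right hp.one_lt).1 h2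
    apply hn
    refine (pow_dvd_pow p (by omega : n + 1 ≤ j)).trans ?_
    rw [← hj]
    exact card_subgroup_dvd_card _
  · have hp1 : IsPGroup p ↥(Q'.map (MulAut.conj g).toMonoidHom ⊓ R' : Subgroup G) := hRp.to_le inf_le_right
    have hnt : Nontrivial ↥(Q'.map (MulAut.conj g).toMonoidHom ⊓ R' : Subgroup G) :=
      (Subgroup.nontrivial_iff_ne_bot _).2 hd
    obtain ⟨j, hj0, hj⟩ := hp1.nontrivial_iff_card.1 hnt
    obtain ⟨⟨w, hw⟩, hwo⟩ := exists_prime_orderOf_dvd_card' p
      (show p ∣ Nat.card ↥(Q'.map (MulAut.conj g).toMonoidHom ⊓ R' : Subgroup G) by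
        rw [hj]; exact dvd_pow_self p hj0.ne')
    rw [Subgroup.orderOf_mk] at hwo
    obtain ⟨v, hv, rfl⟩ := hw.1
    refine ⟨g, v, ?_, map_subtype_le _ hv, map_subtype_le _ hw.2⟩
    rw [← hwo]
    exact (MulEquiv.orderOf_eq (MulAut.conj g) v).symm

/-- a nilpotent subgroup and the centralizer of one of its elements -/
theorem card_dvd_of_nilpotent {p k : ℕ} (hp : p.Prime) {N : Subgroup G} (hN : Group.IsNilpotent ↥N) {x : G}
    (hxN : x ∈ N) (hx : orderOf x = p) (hk : ¬ p ^ (k + 1) ∣ Nat.card ↥N) :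
    Nat.card ↥N ∣ p ^ k * Nat.card ↥(centralizer ({x} : Set G)) := by
  have : Fact p.Prime := ⟨hp⟩
  refine (Nat.dvd_iff_prime_pow_dvd_dvd _ _).2 fun q j hq hqj => ?_
  have : Fact q.Prime := ⟨hq⟩
  by_cases hqp : q = p
  · subst hqp
    have hjk : j ≤ k := by
      by_contra hcon
      exact hk ((pow_dvd_pow q (by omega)).trans hqj)
    exact (pow_dvd_pow q hjk).trans (dvd_mul_right _ _)
  · refine Dvd.dvd.mul_left ?_ _
    obtain ⟨S⟩ : Nonempty (Sylow q ↥N) := inferInstance
    obtain ⟨P⟩ : Nonempty (Sylow p ↥N) := inferInstance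
    have hSn : (S : Subgroup ↥N).Normal := inferInstance
    have hPn : (P : Subgroup ↥N).Normal := inferInstance
    have hxP : (⟨x, hxN⟩ : ↥N) ∈ (P : Subgroup ↥N) := by
      have h1 : IsPGroup p ↥(zpowers (⟨x, hxN⟩ : ↥N)) :=
        IsPGroup.of_card (n := 1) (by rw [Nat.card_zpowers, Subgroup.orderOf_mk, hx, pow_one])
      obtain ⟨P', hP'⟩ := h1.exists_le_sylow
      have : Subsingleton (Sylow p ↥N) := by
        have := Sylow.unique_of_normal P hPn
        infer_instance
      rw [Subsingleton.elim P' P] at hP'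
      exact hP' (mem_zpowers _)
    have hdis : Disjoint (S : Subgroup ↥N) (P : Subgroup ↥N) :=
      IsPGroup.disjoint_of_ne q p hqp _ _ S.isPGroup' P.isPGroup'
    have hle : (S : Subgroup ↥N).map N.subtype ≤ centralizer ({x} : Set G) := by
      rintro _ ⟨s, hs, rfl⟩
      rw [mem_centralizer_singleton_iff]
      have h1 := Subgroup.commute_of_normal_of_disjoint _ _ hSn hPn hdis s ⟨x, hxN⟩ hs hxP
      exact congrArg Subtype.val h1.eq
    refine Dvd.dvd.trans ?_ (card_dvd_of_le hle)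
    rw [card_map_of_injective N.subtype_injective]
    exact S.pow_dvd_card_of_pow_dvd_card hqj

end Cfsg.Agent.H199.NSmAbs
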