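import Cfsg.Agent.H805.NilSp_m3
import Cfsg.Agent.CTwoTab.Fi23Fin
import Cfsg.Agent.LThreeFi23.TwoCl
import Cfsg.Agent.LThreeFi23.CentUuComp
import Cfsg.Agent.Prune
set_option linter.all false
prune_inst 0x7f00000000000000000000000000000000000000000000000000000000000000000000000000000000000000000000000000000000000000000000000000000000000000000000000000000000000000003fffffffffffffffffffffffffffbeffbdffffffff
open scoped Cfsg.Agent.FastGrp

/-!
# S2242, the row `Fi23` (helper199)
-/

set_option autoImplicit false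
set_option maxRecDepth 100000

namespace Cfsg.Agent.H199.NSmFi23

open Subgroup Cfsg Cfsg.Agent.H972 Cfsg.Agent.H199.NSmTool
open Cfsg.Agent.H972.NSm hiding Small
open Cfsg.Agent.Fischer.Fi23Z Cfsg.Agent.Fischer.Fi23Hom
open Cfsg.Agent.Fischer Cfsg.Agent.Fischer.Fi23Class Cfsg.Agent.Fischer.Fi23Simple
open Cfsg.Agent.KFacts.FiTTh.Cent
open Cfsg.Spor Cfsg.Spor.Fi23
open Cfsg.Agent.CTwoTab.Fi23

universe u

theorem finite : Finite Fi23 := Nat.finite_of_card_ne_zero (by rw [card_Fi23]; norm_num)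

theorem nle_z0 (h : NSm.Small Cfsg.Spor.Fi22) : NLE (2 * 8035032) ↥(centralizer ({z0} : Set Fi23)) := by
  have := finite
  obtain ⟨h1, ⟨e⟩, -⟩ := KFacts.FiTTh.Quasi.cover
  rw [← K_eq]
  refine nle_center_quot h1 ?_
  exact (h.nle (by rw [Cfsg.Agent.S1696.result.2]; norm_num)).congr e.symm

theorem nle_inv (h : NSm.Small Cfsg.Spor.Fi22) {t : Fi23} (ht : orderOf t = 2) :
    NLE 48210192 ↥(centralizer ({t} : Set Fi23)) := by
  have := finite
  have h1 : t * t = 1 := by
    have := pow_orderOf_eq_one t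
    rwa [ht, pow_two] at this
  have h2 : t ≠ 1 := by
    rintro rfl
    rw [orderOf_one] at ht
    omega
  rcases KFacts.FiTTh.Has.inv t h1 h2 with h3 | h3 | h3
  · exact nle_conj h3 ((nle_z0 h).mono (by norm_num))
  · refine nle_conj h3 ?_
    refine (nle_of_orbit (C := centralizer ({W2} : Set Fi23)) (a := z0) (S := Ds2) (k := 3) (fun x hx => ?_) ?_
      (nle_z0 h)).mono (by norm_num)
    · exact perm2 (mem_centralizer_singleton_iff.1 hx) (Or.inl rfl)
    · unfold Ds2
      exact (Set.ncard_insert_le _ _).trans (by rw [Set.ncard_singleton]; norm_num)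
  · refine nle_conj h3 ?_
    refine (nle_of_orbit (C := centralizer ({W3} : Set Fi23)) (a := z0) (S := Ds3) (k := 3) (fun x hx => ?_) ?_
      (nle_z0 h)).mono (by norm_num)
    · exact perm3 hac (mem_centralizer_singleton_iff.1 hx) (Or.inl rfl)
    · unfold Ds3
      refine (Set.ncard_insert_le _ _).trans (Nat.succ_le_succ ?_)
      exact (Set.ncard_insert_le _ _).trans (by rw [Set.ncard_singleton])

open Cfsg.Agent.LThreeFi23 in
/-- elements of order three -/
theorem card_three {x : Fi23} (hx : orderOf x = 3) :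
    Nat.card ↥(centralizer ({x} : Set Fi23)) ∣ 2 ^ 18 * 26867295 ∨
      Nat.card ↥(centralizer ({x} : Set Fi23)) ∣ 2 ^ 18 * 39858075 := by
  have := finite
  have hx3 : x ^ 3 = 1 := by rw [← hx, pow_orderOf_eq_one]
  have hx1 : x ≠ 1 := by
    intro h1
    rw [h1, orderOf_one] at hx
    omega
  by_cases hu : IsConj uu x
  · left
    rw [card_C_of_conj hu]
    norm_num
  · right
    have key : ∀ r : ℕ, r.Prime → 7 ≤ r → ¬ r ∣ Nat.card ↥(centralizer ({x} : Set Fi23)) := by
      intro r hr hr7 hd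
      have : Fact r.Prime := ⟨hr⟩
      obtain ⟨⟨y, hyx⟩, hy⟩ := exists_prime_orderOf_dvd_card' (G := ↥(centralizer ({x} : Set Fi23))) r hd
      rw [Subgroup.orderOf_mk] at hy
      have hyr : y ^ r = 1 := by rw [← hy, pow_orderOf_eq_one]
      have hy1 : y ≠ 1 := by
        rintro rfl
        rw [orderOf_one] at hy
        exact hr.one_lt.ne hy
      have hxy : x * y = y * x := (mem_centralizer_singleton_iff.1 hyx).symm
      have hT := Tel.of_three hx3
      rcases prime_cases hr (by omega) (prime_dvd_card hr hyr hy1) with rfl | rfl | rfl | rfl | rfl | rfl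
      · omega
      · obtain ⟨g, i, hg⟩ := conj_seven hyr
        obtain ⟨k, m, hk⟩ := r7 (conj_Tel hT g) (comm_of_conj_zpow hr pow7 hy1 hxy hg)
        exact hu (isConj_of_conj g (isConj_of_conj k (class_uu hk (conj_ne (conj_ne hx1 g) k)))).symm
      · obtain ⟨g, i, hg⟩ := conj_eleven hyr
        exact absurd (r11 (conj_Tel hT g) (comm_of_conj_zpow hr pow11 hy1 hxy hg)) (conj_ne hx1 g)
      · obtain ⟨g, i, hg⟩ := conj_thirteen hyr
        obtain ⟨m, hk⟩ := r13 (conj_Tel hT g) (comm_of_conj_zpow hr pow13 hy1 hxy hg)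
        exact hu (isConj_of_conj g (class_uu hk (conj_ne hx1 g))).symm
      · obtain ⟨g, i, hg⟩ := conj_seventeen hyr
        exact absurd (r17 (conj_Tel hT g) (comm_of_conj_zpow hr pow17 hy1 hxy hg)) (conj_ne hx1 g)
      · obtain ⟨g, i, hg⟩ := conj_twentythree hyr
        exact absurd (r23 (conj_Tel hT g) (comm_of_conj_zpow hr pow23 hy1 hxy hg)) (conj_ne hx1 g)
    have hd : Nat.card ↥(centralizer ({x} : Set Fi23)) ∣ 2 ^ 18 * 39858075 * (7 * 11 * 13 * 17 * 23) := by
      refine (Subgroup.card_subgroup_dvd_card _).trans ?_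
      rw [card_Fi23]
      norm_num
    have hco : ∀ r : ℕ, r.Prime → 7 ≤ r → (Nat.card ↥(centralizer ({x} : Set Fi23))).Coprime r := fun r hr hr7 =>
      ((Nat.Prime.coprime_iff_not_dvd hr).2 (key r hr hr7)).symm
    refine Nat.Coprime.dvd_of_dvd_mul_right ?_ hd
    refine Nat.Coprime.mul_right (Nat.Coprime.mul_right (Nat.Coprime.mul_right (Nat.Coprime.mul_right ?_ ?_) ?_) ?_) ?_
    all_goals exact hco _ (by norm_num) (by norm_num)

theorem small (h : NSm.Small Cfsg.Spor.Fi22) : NSm.Small Fi23 := by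
  have := finite
  intro N hN
  rw [card_Fi23]
  by_cases h2 : 2 ∣ Nat.card ↥N
  · obtain ⟨t, ht, -, hle⟩ := exists_le_centralizer hN Nat.prime_two h2
    have h3 := (nle_inv h ht).apply hN hle
    calc Nat.card ↥N ^ 2 ≤ 48210192 ^ 2 := Nat.pow_le_pow_left h3 2
      _ < _ := by norm_num
  by_cases h3 : 3 ∣ Nat.card ↥N
  · obtain ⟨x, hx, -, hle⟩ := exists_le_centralizer hN Nat.prime_three h3
    have h4 : Nat.card ↥N ≤ 39858075 := by
      have h5 : Nat.card ↥N ∣ Nat.card ↥(centralizer ({x} : Set Fi23)) := Subgroup.card_dvd_of_le hle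
      rcases card_three hx with h6 | h6
      · exact (card_le_of_odd h2 (by norm_num) (h5.trans h6)).trans (by norm_num)
      · exact card_le_of_odd h2 (by norm_num) (h5.trans h6)
    calc Nat.card ↥N ^ 2 ≤ 39858075 ^ 2 := Nat.pow_le_pow_left h4 2
      _ < _ := by norm_num
  · have h4 : Nat.card ↥N ∣ 2 ^ 18 * (3 ^ 13 * 9784775) := by
      have := Subgroup.card_subgroup_dvd_card N
      rwa [card_Fi23] at this
    have h5 := dvd_of_not_dvd Nat.prime_three h3 (dvd_of_not_dvd Nat.prime_two h2 h4)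
    have h6 : Nat.card ↥N ≤ 9784775 := Nat.le_of_dvd (by norm_num) h5
    calc Nat.card ↥N ^ 2 ≤ 9784775 ^ 2 := Nat.pow_le_pow_left h6 2
      _ < _ := by norm_num

/-- the hypothesis on `Fi22` -/
theorem small22 {n : ℕ} (hn : 64561751654400 < n)
    (hI : ∀ (H : Type u) [Group H] [Finite H], IsSimpleGroup H → ¬ IsMulCommutative H → Nat.card H < n →
      NSm.Small H) : NSm.Small Cfsg.Spor.Fi22 := by
  have hc : Nat.card Cfsg.Spor.Fi22 = 64561751654400 := Cfsg.Agent.S1696.result.2
  have hfin : Finite Cfsg.Spor.Fi22 := Nat.finite_of_card_ne_zero (by rw [hc]; norm_num)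
  have hs : IsSimpleGroup Cfsg.Spor.Fi22 := Cfsg.Agent.S1696.result.1
  refine small_lift hI Cfsg.Spor.Fi22 hs ?_ (by rw [hc]; exact hn)
  intro hm
  have := hm
  let cg : CommGroup Cfsg.Spor.Fi22 :=
    { (inferInstance : Group Cfsg.Spor.Fi22) with mul_comm := fun a b => hm.is_comm.comm a b }
  have hp := IsSimpleGroup.prime_card (α := Cfsg.Spor.Fi22)
  rw [hc] at hp
  norm_num at hp

/-- **The row `Fi23` of S2242.** -/
theorem small_Fi23 {G : Type u} [Group G] [Finite G] (h : Cfsg.Spor.IsoFi23 G)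
    (hI : ∀ (H : Type u) [Group H] [Finite H], IsSimpleGroup H → ¬ IsMulCommutative H → Nat.card H < Nat.card G →
      NSm.Small H) : NSm.Small G := by
  obtain ⟨e⟩ := h
  have hc : Nat.card G = 4089470473293004800 := by rw [Nat.card_congr e.toEquiv, card_Fi23]
  rw [hc] at hI
  exact (small (small22 (by norm_num) hI)).congr e.symm

end Cfsg.Agent.H199.NSmFi23
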