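import Cfsg.Agent.H199.NSmFi23
import Cfsg.Agent.H237.EvenFi
import Cfsg.Agent.H841.Phi_m3
import Cfsg.Agent.H843.N11
import Cfsg.Agent.H843.N17
import Cfsg.Agent.H843.N23
import Cfsg.Agent.H843.N29
import Cfsg.Agent.FastGrp
import Cfsg.Agent.Prune
set_option linter.all false
prune_inst 0x7f00000000000000000000000000000000000000000000000000000000000000000000000000000000000000000000000000000000000000000000000000000000000000000000000000000000000000003fffffffffffffffffffffffffffbeffbdffffffff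
open scoped Cfsg.Agent.FastGrp

/-!
# S2242, the row `Fi24'` (helper199)

* `nle_inv` : involutions
* `five` : `3 ^ 5` does not divide the order of the centralizer of an element of order 5 of `Fi24`
* `small_Fi24p`
-/

set_option autoImplicit false
set_option maxRecDepth 100000

namespace Cfsg.Agent.H199.NSmFi24

open Subgroup Cfsg Cfsg.Agent.H972 Cfsg.Agent.H199.NSmTool
open Cfsg.Agent.H972.NSm hiding Small
open Cfsg.Spor Cfsg.Agent.R01 Cfsg.Agent.R08 Cfsg.Agent.R08.FiTwentyFour
open Cfsg.Agent.R08.TetTwo Cfsg.Agent.R08.TetThree Cfsg.Agent.R08.TetBasic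
open Cfsg.Agent.CTwoTab.FiTF

universe u

local notation "Pr" => Cfsg.Agent.R08.TetFi24A.At

theorem finite' : Finite Spor.Fi24' := by
  have := finite_Fi24
  infer_instance

theorem card_Fi24p : Nat.card Spor.Fi24' = 1255205709190661721292800 := FiTwentyFour.card_commutator

theorem nle_N (h : NSm.Small Cfsg.Spor.Fi22) {a b : Fi24} (P : Pr a b) : NLE (2 * 8035032) ↥(N a b) := by
  have := finite_Fi24
  have hc := OddHalf.D4.Spor.FiTF.card_Cab P
  have e := quoEquivFi P
  have hZ : Nat.card ↥(center ↥(Cab a b)) = 2 := by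
    have h1 := Subgroup.card_eq_card_quotient_mul_card_subgroup (center ↥(Cab a b))
    rw [Nat.card_congr e.toEquiv, S1696.result.2, hc] at h1
    omega
  refine NLE.congr (nle_center_quot hZ ?_) (eN a b).symm
  exact (h.nle (by rw [S1696.result.2]; norm_num)).congr e.symm

/-- the centralizers of the involutions -/
theorem nle_inv (h : NSm.Small Cfsg.Spor.Fi22) {t : Spor.Fi24'} (ht : orderOf t = 2) :
    NLE 321052999680 ↥(centralizer ({t} : Set Spor.Fi24')) := by
  have := finite_Fi24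
  have := finite'
  rcases classes t ht with ⟨a, b, P, h1⟩ | ⟨g, rfl⟩
  · refine (nle_of_two (D := N a b) ?_ (nle_N h P)).mono (by norm_num)
    intro x hx y hy nx ny
    have key : ∀ w ∈ centralizer ({t} : Set Spor.Fi24'), w ∉ N a b →
        (w : Fi24) * a * (w : Fi24)⁻¹ = b ∧ (w : Fi24) * b * (w : Fi24)⁻¹ = a := by
      intro w hw nw
      rcases fix_or_swap P h1 hw with h2 | h2
      · exfalso
        apply nw
        rw [mem_N, mem_Cab]
        exact ⟨mem_commutator_iff.1 w.2, mul_inv_eq_iff_eq_mul.1 h2.1, mul_inv_eq_iff_eq_mul.1 h2.2⟩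
      · exact h2
    obtain ⟨x1, x2⟩ := key x hx nx
    obtain ⟨y1, y2⟩ := key y hy ny
    have e1 : (x : Fi24)⁻¹ * b * (x : Fi24) = a := by rw [← x1]; group
    have e2 : (x : Fi24)⁻¹ * a * (x : Fi24) = b := by rw [← x2]; group
    rw [mem_N, mem_Cab]
    refine ⟨mem_commutator_iff.1 (x⁻¹ * y : Spor.Fi24').2, ?_, ?_⟩
    · show (x : Fi24)⁻¹ * (y : Fi24) * a = a * ((x : Fi24)⁻¹ * (y : Fi24))
      calc (x : Fi24)⁻¹ * (y : Fi24) * a = (x : Fi24)⁻¹ * ((y : Fi24) * a * (y : Fi24)⁻¹) * (y : Fi24) := by group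
        _ = ((x : Fi24)⁻¹ * b * (x : Fi24)) * ((x : Fi24)⁻¹ * (y : Fi24)) := by rw [y1]; group
        _ = _ := by rw [e1]
    · show (x : Fi24)⁻¹ * (y : Fi24) * b = b * ((x : Fi24)⁻¹ * (y : Fi24))
      calc (x : Fi24)⁻¹ * (y : Fi24) * b = (x : Fi24)⁻¹ * ((y : Fi24) * b * (y : Fi24)⁻¹) * (y : Fi24) := by group
        _ = ((x : Fi24)⁻¹ * a * (x : Fi24)) * ((x : Fi24)⁻¹ * (y : Fi24)) := by rw [y2]; group
        _ = _ := by rw [e2]
  · refine nle_conj (s := z0) (isConj_iff.2 ⟨g⁻¹, by group⟩) ?_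
    refine nle_of_card (Nat.le_of_dvd (by norm_num) ?_)
    rw [← Cfsg.Agent.KFacts.FiTF.Order.card]
    let f : ↥(centralizer ({z0} : Set Spor.Fi24')) →* ↥(centralizer ({KFacts.FiTF.Defs.z} : Set Spor.Fi24)) :=
      ((commutator Fi24).subtype.comp (centralizer ({z0} : Set Spor.Fi24')).subtype).codRestrict _ (by
        intro x
        rw [mem_centralizer_singleton_iff]
        exact congrArg Subtype.val (mem_centralizer_singleton_iff.1 x.2))
    refine Subgroup.card_dvd_of_injective f ?_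
    intro x y h
    have h1 := (Subtype.mk.injEq _ _ _ _).mp h
    exact Subtype.ext (Subtype.ext h1)

/-! ### Elements of order five -/

open Cfsg.Agent.LThreeFi24.SNine in
/-- the action on the nine letters -/
noncomputable def phi : ↥G0 →* Equiv.Perm (Fin 9) where
  toFun x := (exists_R x.2).choose
  map_one' := R.uniq (exists_R (1 : ↥G0).2).choose_spec R.one
  map_mul' x y := R.uniq (exists_R (x * y : ↥G0).2).choose_spec
    ((exists_R x.2).choose_spec.mul (exists_R y.2).choose_spec)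

open Cfsg.Agent.LThreeFi24.SNine in
theorem phi_ker {x : ↥G0} (h : phi x = 1) (h3 : x ^ 3 = 1) : x = 1 := by
  have h1 : R (x : Fi24) 1 := by
    rw [← h]
    exact (exists_R x.2).choose_spec
  exact Subtype.ext (eq_one_of h1 (mem_G0.1 x.2) (congrArg Subtype.val h3))

open Cfsg.Agent.LThreeFi24.SNine in
theorem not_dvd_G0 : ¬ 3 ^ 5 ∣ Nat.card ↥G0 := by
  intro hd
  have := finite_Fi24
  have : Fact (Nat.Prime 3) := ⟨Nat.prime_three⟩
  obtain ⟨Q, hQ⟩ := Sylow.exists_subgroup_card_pow_prime 3 hd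
  have hinj : Function.Injective (phi.comp Q.subtype) := by
    rw [injective_iff_map_eq_one]
    intro x hx
    by_contra hne
    have h1 : orderOf x ∣ 3 ^ 5 := by rw [← hQ]; exact orderOf_dvd_natCard x
    obtain ⟨k, -, hk⟩ := (Nat.dvd_prime_pow Nat.prime_three).1 h1
    have hk0 : k ≠ 0 := by
      rintro rfl
      rw [pow_zero, orderOf_eq_one_iff] at hk
      exact hne hk
    obtain ⟨m, rfl⟩ := Nat.exists_eq_succ_of_ne_zero hk0
    have h2 : (((x ^ 3 ^ m : ↥Q)) : ↥G0) = 1 := by
      apply phi_ker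
      · have : phi ((x ^ 3 ^ m : ↥Q) : ↥G0) = (phi.comp Q.subtype x) ^ 3 ^ m := by
          rw [← map_pow]
          rfl
        rw [this, hx, one_pow]
      · have h3 : (x ^ 3 ^ m) ^ 3 = 1 := by
          rw [← pow_mul, ← pow_succ, ← Nat.succ_eq_add_one, ← hk, pow_orderOf_eq_one]
        exact congrArg Subtype.val h3
    have h3 : x ^ 3 ^ m = 1 := Subtype.ext h2
    have h4 := orderOf_dvd_of_pow_eq_one h3
    rw [hk] at h4
    have h5 := Nat.le_of_dvd (by positivity) h4
    exact absurd h5 (not_le.2 (Nat.pow_lt_pow_right (by norm_num) (Nat.lt_succ_self m)))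
  have h1 : Nat.card ↥Q ∣ Nat.card (Equiv.Perm (Fin 9)) := Subgroup.card_dvd_of_injective _ hinj
  rw [hQ, Nat.card_eq_fintype_card, Fintype.card_perm, Fintype.card_fin] at h1
  revert h1
  decide

open Cfsg.Agent.LThreeFi24.SNine in
/-- the centralizer of an element of order five -/
theorem five {u : Fi24} (hu : orderOf u = 5) : ¬ 3 ^ 5 ∣ Nat.card ↥(centralizer ({u} : Set Fi24)) := by
  obtain ⟨g, hg⟩ := Cfsg.Agent.LThreeFi24.FiveConj.exists_conj_five hu
  have h1 : Nat.card ↥(centralizer ({u} : Set Fi24)) = Nat.card ↥G0 := by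
    refine Nat.card_congr (Equiv.mk (fun x => ⟨g * x * g⁻¹, ?_⟩) (fun x => ⟨g⁻¹ * x * g, ?_⟩) ?_ ?_)
    · rw [mem_G0, ← hg]
      have h2 := mem_centralizer_singleton_iff.1 x.2
      calc g * (x : Fi24) * g⁻¹ * (g * u * g⁻¹) = g * ((x : Fi24) * u) * g⁻¹ := by group
        _ = g * (u * (x : Fi24)) * g⁻¹ := by rw [h2]
        _ = _ := by group
    · rw [mem_centralizer_singleton_iff]
      have h2 := mem_G0.1 x.2
      rw [← hg] at h2
      calc g⁻¹ * (x : Fi24) * g * u = g⁻¹ * ((x : Fi24) * (g * u * g⁻¹)) * g := by group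
        _ = g⁻¹ * ((g * u * g⁻¹) * (x : Fi24)) * g := by rw [h2]
        _ = _ := by group
    · intro x
      apply Subtype.ext
      show g⁻¹ * (g * (x : Fi24) * g⁻¹) * g = x
      group
    · intro x
      apply Subtype.ext
      show g * (g⁻¹ * (x : Fi24) * g) * g⁻¹ = x
      group
  rw [h1]
  exact not_dvd_G0

/-! ### Large primes -/

/-- a nilpotent subgroup of `Fi24` of order divisible by 11, 17, 23 or 29 has order at most 2640 -/
theorem large {N : Subgroup Fi24} (hN : Group.IsNilpotent ↥N) {r : ℕ} (hr : r = 11 ∨ r = 17 ∨ r = 23 ∨ r = 29)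
    (hd : r ∣ Nat.card ↥N) : Nat.card ↥N ≤ 2640 := by
  have := finite_Fi24
  have hc := Cfsg.Agent.H843.Fi24N.card_Fi24
  rcases hr with rfl | rfl | rfl | rfl
  · exact card_le_of_normalizer (by norm_num) (by rw [hc]; norm_num) H843.D11.order
      (by rw [H843.D11.main]) hN hd
  · exact card_le_of_normalizer (by norm_num) (by rw [hc]; norm_num) H843.D17.order
      (by rw [H843.D17.main.1]; norm_num) hN hd
  · exact card_le_of_normalizer (by norm_num) (by rw [hc]; norm_num) H843.D23.order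
      (by rw [H843.D23.main.1]; norm_num) hN hd
  · exact card_le_of_normalizer (by norm_num) (by rw [hc]; norm_num) H843.D29.order
      (by rw [H843.D29.main.1]; norm_num) hN hd

theorem small (h : NSm.Small Cfsg.Spor.Fi22) : NSm.Small Spor.Fi24' := by
  have := finite_Fi24
  have := finite'
  intro N hN
  rw [card_Fi24p]
  by_cases h2 : 2 ∣ Nat.card ↥N
  · obtain ⟨t, ht, -, hle⟩ := exists_le_centralizer hN Nat.prime_two h2
    have h3 := (nle_inv h ht).apply hN hle
    calc Nat.card ↥N ^ 2 ≤ 321052999680 ^ 2 := Nat.pow_le_pow_left h3 2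
      _ < _ := by norm_num
  have hN' : Group.IsNilpotent ↥(N.map (commutator Fi24).subtype) :=
    Group.nilpotent_of_mulEquiv (N.equivMapOfInjective _ (commutator Fi24).subtype_injective)
  have hcN : Nat.card ↥(N.map (commutator Fi24).subtype) = Nat.card ↥N :=
    card_map_of_injective (commutator Fi24).subtype_injective
  by_cases hl : ∃ r : ℕ, (r = 11 ∨ r = 17 ∨ r = 23 ∨ r = 29) ∧ r ∣ Nat.card ↥N
  · obtain ⟨r, hr, hd⟩ := hl
    have h3 : Nat.card ↥N ≤ 2640 := by
      rw [← hcN]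
      exact large hN' hr (by rw [hcN]; exact hd)
    calc Nat.card ↥N ^ 2 ≤ 2640 ^ 2 := Nat.pow_le_pow_left h3 2
      _ < _ := by norm_num
  have nd : ∀ r : ℕ, (r = 11 ∨ r = 17 ∨ r = 23 ∨ r = 29) → ¬ r ∣ Nat.card ↥N := fun r hr hd => hl ⟨r, hr, hd⟩
  have h4 : Nat.card ↥N ∣ 2 ^ 21 * (11 ^ 1 * (17 ^ 1 * (23 ^ 1 * (29 ^ 1 * (5 ^ 2 * (3 ^ 16 * 4459)))))) := by
    have := Subgroup.card_subgroup_dvd_card N
    rwa [card_Fi24p] at this
  have h5 := dvd_of_not_dvd (by norm_num) h2 h4
  have h6 := dvd_of_not_dvd (by norm_num) (nd 11 (by simp)) h5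
  have h7 := dvd_of_not_dvd (by norm_num) (nd 17 (by simp)) h6
  have h8 := dvd_of_not_dvd (by norm_num) (nd 23 (by simp)) h7
  have h9 := dvd_of_not_dvd (by norm_num) (nd 29 (by simp)) h8
  have h10 : Nat.card ↥N ≤ 191945328939 := by
    by_cases hf : 5 ∣ Nat.card ↥N
    · obtain ⟨u, hu, -, hle⟩ := exists_le_centralizer hN' Nat.prime_five (by rw [hcN]; exact hf)
      have h11 := five hu
      have h12 : ¬ 3 ^ 5 ∣ Nat.card ↥N := by
        intro h13
        apply h11
        rw [← hcN] at h13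
        exact h13.trans (Subgroup.card_dvd_of_le hle)
      obtain ⟨a, m, hm, hm2⟩ := Nat.exists_eq_pow_mul_and_not_dvd (n := Nat.card ↥N) Nat.card_pos.ne' 3 (by norm_num)
      have ha : a < 5 := by
        by_contra hc
        exact h12 ((pow_dvd_pow 3 (not_lt.1 hc)).trans (hm2 ▸ dvd_mul_right _ _))
      have h13 : m ∣ 3 ^ 16 * (5 ^ 2 * 4459) := by
        refine (Dvd.intro_left _ hm2.symm).trans ?_
        refine h9.trans ?_
        norm_num
      have h14 : m ∣ 5 ^ 2 * 4459 :=
        ((((Nat.Prime.coprime_iff_not_dvd Nat.prime_three).2 hm).symm).pow_right 16).dvd_of_dvd_mul_left h13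
      have h15 := Nat.le_of_dvd (by norm_num) h14
      rw [hm2]
      calc 3 ^ a * m ≤ 3 ^ 4 * (5 ^ 2 * 4459) := Nat.mul_le_mul (Nat.pow_le_pow_right (by norm_num) (by omega)) h15
        _ ≤ _ := by norm_num
    · exact Nat.le_of_dvd (by norm_num) ((dvd_of_not_dvd (by norm_num) hf h9).trans (by norm_num))
  calc Nat.card ↥N ^ 2 ≤ 191945328939 ^ 2 := Nat.pow_le_pow_left h10 2
    _ < _ := by norm_num

/-- **The row `Fi24'` of S2242.** -/
theorem small_Fi24p {G : Type u} [Group G] [Finite G] (h : Cfsg.Spor.IsoFi24' G)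
    (hI : ∀ (H : Type u) [Group H] [Finite H], IsSimpleGroup H → ¬ IsMulCommutative H → Nat.card H < Nat.card G →
      NSm.Small H) : NSm.Small G := by
  obtain ⟨e⟩ := h
  have hc : Nat.card G = 1255205709190661721292800 := by rw [Nat.card_congr e.toEquiv, card_Fi24p]
  rw [hc] at hI
  exact (small (NSmFi23.small22 (by norm_num) hI)).congr e.symm

end Cfsg.Agent.H199.NSmFi24
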